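import Groth.Agent.CohtopA.PBSquare
import Mathlib.Topology.Category.TopCat.Opens
import Mathlib.Topology.Order.IntermediateValue
import Mathlib.Topology.Order.OrderClosed
import Mathlib.Topology.Connected.Basic
import Mathlib.Topology.MetricSpace.Pseudo.Pi
import Mathlib.Topology.Instances.Real.Lemmas

/-!
# Box charts of maps which are locally on the source projections `V × ℝ^m → V`

* `HasCharts q` : the source of `q : E → T` is covered by open sets openly embedded in `T × ℝ^m` over `T`.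
* `exists_box` : small closed boxes.
* `BoxChart q e W₀` : a box chart around the point `e` inside the open `W₀`.
* `lift` : continuous maps to a cartesian square of spaces.
-/

set_option autoImplicit false
universe u

open CategoryTheory TopologicalSpace Set Topology
open Groth.Agent.CohtopA.PBSquare

namespace Groth.Agent.An.H476.BoxChart

/-- Small boxes in `ℝ^m`. -/
theorem exists_box {m : ℕ} {B : Set (Fin m → ℝ)} (hB : IsOpen B) {x : Fin m → ℝ} (hx : x ∈ B) :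
    ∃ a b : Fin m → ℝ, a ≤ b ∧ Icc a b ⊆ B ∧ x ∈ univ.pi (fun i => Ioo (a i) (b i)) := by
  obtain ⟨ε, hε, h⟩ := Metric.nhds_basis_closedBall.mem_iff.1 (hB.mem_nhds hx)
  refine ⟨fun i => x i - ε, fun i => x i + ε, fun i => by linarith, fun y hy => h ?_, fun i _ => ?_⟩
  · rw [Metric.mem_closedBall, dist_pi_le_iff hε.le]
    intro i
    rw [Real.dist_eq, abs_le]
    have h1 := hy.1 i
    have h2 := hy.2 i
    constructor <;> simp only at h1 h2 <;> linarith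
  · constructor <;> linarith

/-- The open box. -/
def obx {m : ℕ} (a b : Fin m → ℝ) : Set (Fin m → ℝ) := univ.pi (fun i => Ioo (a i) (b i))

theorem isOpen_obx {m : ℕ} (a b : Fin m → ℝ) : IsOpen (obx a b) :=
  isOpen_set_pi finite_univ fun _ _ => isOpen_Ioo

theorem isPreconnected_obx {m : ℕ} (a b : Fin m → ℝ) : IsPreconnected (obx a b) :=
  isPreconnected_univ_pi fun _ => isPreconnected_Ioo

theorem obx_subset {m : ℕ} (a b : Fin m → ℝ) : obx a b ⊆ Icc a b := fun _ hx =>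
  ⟨fun i => (hx i trivial).1.le, fun i => (hx i trivial).2.le⟩

variable {T E : TopCat.{u}} (q : E ⟶ T)

/-- `q` is locally on the source an open subspace of `T × ℝ^m` (over `T`). -/
def HasCharts : Prop :=
  ∀ e : E, ∃ (m : ℕ) (U : Set E) (φ : U → T × (Fin m → ℝ)), IsOpen U ∧ e ∈ U ∧ IsOpenEmbedding φ ∧
    ∀ u : U, (φ u).1 = q u

/-- A box chart around `e` in `W₀`. -/
structure BoxC (e : E) (W₀ : Opens E) where
  /-- the relative dimension -/
  m : ℕ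
  /-- the domain -/
  U : Set E
  /-- the chart -/
  φ : U → T × (Fin m → ℝ)
  hU : IsOpen U
  he : e ∈ U
  hφ : IsOpenEmbedding φ
  hq : ∀ u : U, (φ u).1 = q u
  /-- the base of the box -/
  V : Opens T
  /-- lower corner -/
  a : Fin m → ℝ
  /-- upper corner -/
  b : Fin m → ℝ
  hab : a ≤ b
  hsub : ∀ v ∈ V, ∀ x ∈ Icc a b, ∃ u : U, φ u = (v, x) ∧ (u : E) ∈ W₀
  heV : q e ∈ V
  heI : (φ ⟨e, he⟩).2 ∈ obx a b

variable {q}

theorem nonempty_boxC (hq : HasCharts q) (e : E) (W₀ : Opens E) (he : e ∈ W₀) : Nonempty (BoxC q e W₀) := by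
  obtain ⟨m, U, φ, hU, heU, hφ, hφq⟩ := hq e
  have hO : IsOpen (φ '' ((↑) ⁻¹' (W₀ : Set E))) :=
    hφ.isOpenMap _ (W₀.isOpen.preimage continuous_subtype_val)
  have hmem : φ ⟨e, heU⟩ ∈ (φ '' ((↑) ⁻¹' (W₀ : Set E))) := ⟨⟨e, heU⟩, he, rfl⟩
  obtain ⟨V, B, hV, hB, hV', hB', hVB⟩ := isOpen_prod_iff.1 hO (φ ⟨e, heU⟩).1 (φ ⟨e, heU⟩).2 hmem
  obtain ⟨a, b, hab, hsub, hx⟩ := exists_box hB hB'
  refine ⟨⟨m, U, φ, hU, heU, hφ, hφq, ⟨V, hV⟩, a, b, hab, ?_, ?_, hx⟩⟩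
  · intro v hv x hx
    obtain ⟨u, hu, hu'⟩ := hVB (mk_mem_prod hv (hsub hx))
    exact ⟨u, hu', hu⟩
  · rw [hφq] at hV'
    exact hV'

theorem HasCharts.isOpenMap (hq : HasCharts q) : IsOpenMap q := by
  intro O hO
  rw [isOpen_iff_mem_nhds]
  rintro _ ⟨e, he, rfl⟩
  obtain ⟨c⟩ := nonempty_boxC hq e ⟨O, hO⟩ he
  refine Filter.mem_of_superset (c.V.isOpen.mem_nhds c.heV) fun v hv => ?_
  obtain ⟨u, hu, hu'⟩ := c.hsub v hv c.a ⟨le_rfl, c.hab⟩
  exact ⟨u, hu', by rw [← c.hq, hu]⟩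

namespace BoxC

variable {e : E} {W₀ : Opens E} (c : BoxC q e W₀)

/-- The neighbourhood of `e` given by the chart. -/
def W : Opens E where
  carrier := (↑) '' (c.φ ⁻¹' ((c.V : Set T) ×ˢ obx c.a c.b))
  is_open' := c.hU.isOpenMap_subtype_val _
    ((c.V.isOpen.prod (isOpen_obx _ _)).preimage c.hφ.continuous)

theorem mem_W (u : c.U) : (u : E) ∈ c.W ↔ q u ∈ c.V ∧ (c.φ u).2 ∈ obx c.a c.b := by
  constructor
  · rintro ⟨u', hu', h⟩
    obtain rfl : u' = u := Subtype.ext h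
    exact ⟨by rw [← c.hq]; exact hu'.1, hu'.2⟩
  · rintro ⟨h1, h2⟩
    exact ⟨u, ⟨by rw [c.hq]; exact h1, h2⟩, rfl⟩

theorem W_sub (x : E) (hx : x ∈ c.W) : x ∈ c.U := by
  obtain ⟨u, _, rfl⟩ := hx
  exact u.2

theorem e_mem : e ∈ c.W := (c.mem_W ⟨e, c.he⟩).2 ⟨c.heV, c.heI⟩

theorem W_le : c.W ≤ W₀ := by
  intro x hx
  have hxU := c.W_sub x hx
  obtain ⟨h1, h2⟩ := (c.mem_W ⟨x, hxU⟩).1 hx
  obtain ⟨u, hu, hu'⟩ := c.hsub _ h1 _ (obx_subset _ _ h2)
  have : u = ⟨x, hxU⟩ := c.hφ.injective (by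
    rw [hu]
    exact Prod.ext (c.hq ⟨x, hxU⟩).symm rfl)
  rwa [this] at hu'

theorem W_map : c.W ≤ (Opens.map q).obj c.V := by
  intro x hx
  exact ((c.mem_W ⟨x, c.W_sub x hx⟩).1 hx).1

/-- The inverse chart. -/
noncomputable def χ (p : c.V × Icc c.a c.b) : c.U := (c.hsub p.1 p.1.2 p.2 p.2.2).choose

theorem φ_χ (p : c.V × Icc c.a c.b) : c.φ (c.χ p) = (↑p.1, ↑p.2) :=
  (c.hsub p.1 p.1.2 p.2 p.2.2).choose_spec.1

theorem χ_mem (p : c.V × Icc c.a c.b) : (c.χ p : E) ∈ W₀ :=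
  (c.hsub p.1 p.1.2 p.2 p.2.2).choose_spec.2

theorem q_χ (p : c.V × Icc c.a c.b) : q (c.χ p : E) = p.1 := by
  rw [← c.hq, c.φ_χ]

theorem continuous_χ : Continuous c.χ := by
  rw [c.hφ.isInducing.continuous_iff]
  have : c.φ ∘ c.χ = fun p => ((p.1 : T), (p.2 : Fin c.m → ℝ)) := funext fun p => c.φ_χ p
  rw [this]
  fun_prop

end BoxC

section Lift

variable {X' X Y' Y : TopCat.{u}} {g' : X' ⟶ X} {f' : X' ⟶ Y'} {f : X ⟶ Y} {g : Y' ⟶ Y}

/-- Continuous maps to a cartesian square. -/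
theorem exists_lift (sq : IsPB g' f' f g) {A : Type*} [TopologicalSpace A] (α : A → X) (β : A → Y')
    (hα : Continuous α) (hβ : Continuous β) (h : ∀ a, f (α a) = g (β a)) :
    ∃ γ : A → X', Continuous γ ∧ (∀ a, g' (γ a) = α a) ∧ (∀ a, f' (γ a) = β a) := by
  choose γ h1 h2 using fun a => sq.surj (α a) (β a) (h a)
  refine ⟨γ, ?_, h1, h2⟩
  rw [continuous_iff_continuousAt]
  intro a
  rw [ContinuousAt, sq.nhds, Filter.tendsto_inf, Filter.tendsto_comap_iff, Filter.tendsto_comap_iff, h1, h2]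
  constructor
  · rw [show g' ∘ γ = α from funext h1]
    exact hα.continuousAt
  · rw [show f' ∘ γ = β from funext h2]
    exact hβ.continuousAt

/-- Base changes of open maps are open. -/
theorem isOpenMap_of_isPB (sq : IsPB g' f' f g) (hg : IsOpenMap g) : IsOpenMap g' := by
  intro O hO
  rw [isOpen_iff_mem_nhds]
  rintro _ ⟨x, hx, rfl⟩
  have h1 := hO.mem_nhds hx
  rw [sq.nhds, Filter.mem_inf_iff] at h1
  obtain ⟨A, ⟨A', hA', hAA'⟩, B, ⟨B', hB', hBB'⟩, rfl⟩ := h1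
  have h2 : g '' B' ∈ 𝓝 (g (f' x)) := hg.image_mem_nhds hB'
  have h3 : f ⁻¹' (g '' B') ∈ 𝓝 (g' x) := by
    refine f.hom.continuous.continuousAt.preimage_mem_nhds ?_
    rw [show f.hom (g' x) = g (f' x) from sq.comm x]
    exact h2
  refine Filter.mem_of_superset (Filter.inter_mem hA' h3) ?_
  rintro t ⟨ht, s, hs, hst⟩
  obtain ⟨x', hx', hx''⟩ := sq.surj t s hst.symm
  refine ⟨x', ⟨hAA' ?_, hBB' ?_⟩, hx'⟩
  · rw [mem_preimage, hx']; exact ht
  · rw [mem_preimage, hx'']; exact hs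

end Lift

end Groth.Agent.An.H476.BoxChart
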