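import Mathlib.Topology.Order.Compact
import Mathlib.Topology.Instances.Real.Lemmas
import Mathlib.Topology.Order.Bornology
import Mathlib.Topology.Separation.Regular
import Mathlib.Analysis.SpecificLimits.Basic

/-!
# Bisection principles for closed boxes

* `interval` : a property of closed subintervals of `[a, b]`, additive and locally true, holds for `[a, b]`.
* `box` : the same for closed boxes in `Fin m → ℝ`, seen on a compact space through continuous
  coordinates `c : X → (Fin m → ℝ)`; the local condition is at points only, and neighbourhoods of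
  boxes are used as open sets of `X`.
-/

set_option autoImplicit false

open Set Topology

namespace Groth.Agent.An.H476.Bisect

/-- A property of closed subintervals of `[a, b]` which is additive and locally true holds for `[a, b]`. -/
theorem interval {a b : ℝ} (hab : a ≤ b) (R : ℝ → ℝ → Prop)
    (hadd : ∀ s t u, a ≤ s → s ≤ t → t ≤ u → u ≤ b → R s t → R t u → R s u)
    (hloc : ∀ t ∈ Icc a b, ∃ ε > 0, ∀ s u, a ≤ s → s ≤ t → t ≤ u → u ≤ b → t - ε < s → u < t + ε → R s u) :
    R a b := by
  let T : Set ℝ := {t | t ∈ Icc a b ∧ R a t}
  have haT : a ∈ T := by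
    obtain ⟨ε, hε, h⟩ := hloc a ⟨le_rfl, hab⟩
    exact ⟨⟨le_rfl, hab⟩, h a a le_rfl le_rfl le_rfl hab (by linarith) (by linarith)⟩
  have hbdd : BddAbove T := ⟨b, fun t ht => ht.1.2⟩
  let c := sSup T
  have hac : a ≤ c := le_csSup hbdd haT
  have hcb : c ≤ b := csSup_le ⟨a, haT⟩ fun t ht => ht.1.2
  obtain ⟨ε, hε, h⟩ := hloc c ⟨hac, hcb⟩
  obtain ⟨t, ht, htc⟩ := exists_lt_of_lt_csSup ⟨a, haT⟩ (show c - ε < sSup T by change c - ε < c; linarith)
  have htc' : t ≤ c := le_csSup hbdd ht
  have hRc : ∀ u, c ≤ u → u ≤ b → u < c + ε → R a u := fun u hcu hub hu =>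
    hadd a t u le_rfl ht.1.1 (htc'.trans hcu) hub ht.2
      (h t u ht.1.1 htc' hcu hub htc hu)
  by_contra hne
  have hcb' : c < b := lt_of_le_of_ne hcb fun e => hne (by
    have := hRc c le_rfl hcb (by linarith)
    rwa [e] at this)
  let u := min b (c + ε / 2)
  have h1 : c < u := lt_min hcb' (by linarith)
  have h2 : u ≤ b := min_le_left _ _
  have h3 : u < c + ε := (min_le_right _ _).trans_lt (by linarith)
  have : u ∈ T := ⟨⟨hac.trans h1.le, h2⟩, hRc u h1.le h2 h3⟩
  exact absurd (le_csSup hbdd this) (not_le.2 h1)

section Box

variable {m : ℕ} {X : Type*} [TopologicalSpace X] [CompactSpace X] (c : X → (Fin m → ℝ))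
  (hc : Continuous c)

/-- The box with corners `a`, `b`. -/
def bx (a b : Fin m → ℝ) : Set X := c ⁻¹' (Icc a b)

omit [CompactSpace X] in
include hc in
theorem isClosed_bx (a b : Fin m → ℝ) : IsClosed (bx c a b) := isClosed_Icc.preimage hc

omit [TopologicalSpace X] [CompactSpace X] in
theorem bx_union (a b : Fin m → ℝ) (i : Fin m) {s t u : ℝ} (hst : s ≤ t) (htu : t ≤ u) :
    bx c (Function.update a i s) (Function.update b i t) ∪
      bx c (Function.update a i t) (Function.update b i u) =
      bx c (Function.update a i s) (Function.update b i u) := by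
  ext x
  simp only [bx, mem_union, mem_preimage, mem_Icc, Pi.le_def]
  constructor
  · rintro (⟨h1, h2⟩ | ⟨h1, h2⟩)
    · refine ⟨h1, fun j => ?_⟩
      by_cases hj : j = i
      · subst hj
        have := h2 j
        simp only [Function.update_self] at this ⊢
        exact this.trans htu
      · have := h2 j
        simpa [Function.update_of_ne hj] using this
    · refine ⟨fun j => ?_, h2⟩
      by_cases hj : j = i
      · subst hj
        have := h1 j
        simp only [Function.update_self] at this ⊢
        exact hst.trans this
      · have := h1 j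
        simpa [Function.update_of_ne hj] using this
  · rintro ⟨h1, h2⟩
    rcases le_total (c x i) t with h | h
    · refine Or.inl ⟨h1, fun j => ?_⟩
      by_cases hj : j = i
      · subst hj; simpa using h
      · have := h2 j
        simpa [Function.update_of_ne hj] using this
    · refine Or.inr ⟨fun j => ?_, h2⟩
      by_cases hj : j = i
      · subst hj; simpa using h
      · have := h1 j
        simpa [Function.update_of_ne hj] using this

omit [TopologicalSpace X] [CompactSpace X] in
theorem bx_inter (a b : Fin m → ℝ) (i : Fin m) {s t u : ℝ} (hst : s ≤ t) (htu : t ≤ u) :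
    bx c (Function.update a i s) (Function.update b i t) ∩
      bx c (Function.update a i t) (Function.update b i u) =
      bx c (Function.update a i t) (Function.update b i t) := by
  ext x
  simp only [bx, mem_inter_iff, mem_preimage, mem_Icc, Pi.le_def]
  constructor
  · rintro ⟨⟨_, h2⟩, ⟨h3, _⟩⟩
    exact ⟨h3, h2⟩
  · rintro ⟨h1, h2⟩
    refine ⟨⟨fun j => ?_, h2⟩, ⟨h1, fun j => ?_⟩⟩
    · by_cases hj : j = i
      · subst hj
        have := h1 j
        simp only [Function.update_self] at this ⊢
        exact hst.trans this
      · have := h1 j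
        simpa [Function.update_of_ne hj] using this
    · by_cases hj : j = i
      · subst hj
        have := h2 j
        simp only [Function.update_self] at this ⊢
        exact this.trans htu
      · have := h2 j
        simpa [Function.update_of_ne hj] using this

include hc in
/-- Slabs around a slice contained in an open set are contained in it. -/
theorem exists_slab (a b : Fin m → ℝ) (i : Fin m) (t : ℝ) {O : Set X} (hO : IsOpen O)
    (h : bx c (Function.update a i t) (Function.update b i t) ⊆ O) :
    ∃ ε > 0, ∀ s u, s ≤ t → t ≤ u → t - ε < s → u < t + ε →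
      bx c (Function.update a i s) (Function.update b i u) ⊆ O := by
  by_contra hne
  push Not at hne
  -- the compact set of bad points
  have hK : IsCompact (Oᶜ) := hO.isClosed_compl.isCompact
  let B : ℕ → Set X := fun n => {x | x ∉ O ∧ (∀ j, j ≠ i → a j ≤ c x j ∧ c x j ≤ b j) ∧
    |c x i - t| ≤ 1 / ((n : ℝ) + 1)}
  have hne' : ∀ n, (B n).Nonempty := by
    intro n
    obtain ⟨s, u, hs, hu, hs', hu', hsub⟩ := hne (1 / ((n : ℝ) + 1)) (by positivity)
    obtain ⟨x, hx, hxO⟩ := not_subset.1 hsub
    refine ⟨x, hxO, fun j hj => ?_, ?_⟩
    · have h1 := hx.1 j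
      have h2 := hx.2 j
      rw [Function.update_of_ne hj] at h1 h2
      exact ⟨h1, h2⟩
    · have h1 := hx.1 i
      have h2 := hx.2 i
      rw [Function.update_self] at h1 h2
      rw [abs_le]
      constructor <;> linarith
  have hcl : ∀ n, IsClosed (B n) := by
    intro n
    have h1 : ∀ j, Continuous fun x => c x j := fun j => (continuous_apply j).comp hc
    refine hO.isClosed_compl.inter (IsClosed.inter ?_ ?_)
    · have : {x : X | ∀ j, j ≠ i → a j ≤ c x j ∧ c x j ≤ b j} =
        ⋂ j, ⋂ (_ : j ≠ i), {x | a j ≤ c x j} ∩ {x | c x j ≤ b j} := by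
          ext x; simp
      change IsClosed {x : X | ∀ j, j ≠ i → a j ≤ c x j ∧ c x j ≤ b j}
      rw [this]
      exact isClosed_iInter fun j => isClosed_iInter fun _ =>
        (isClosed_le continuous_const (h1 j)).inter (isClosed_le (h1 j) continuous_const)
    · exact isClosed_le ((h1 i).sub continuous_const).abs continuous_const
  have hanti : ∀ n, B (n + 1) ⊆ B n := by
    rintro n x ⟨h1, h2, h3⟩
    refine ⟨h1, h2, h3.trans ?_⟩
    have h4 : (0 : ℝ) < (n : ℝ) + 1 := by positivity
    exact one_div_le_one_div_of_le h4 (by push_cast; linarith)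
  obtain ⟨x, hx⟩ := IsCompact.nonempty_iInter_of_sequence_nonempty_isCompact_isClosed B hanti hne'
    (hcl 0).isCompact hcl
  rw [mem_iInter] at hx
  refine (hx 0).1 (h ⟨fun j => ?_, fun j => ?_⟩)
  all_goals
    by_cases hj : j = i
    · subst hj
      have h0 : c x j = t := by
        have : |c x j - t| ≤ 0 := by
          refine ge_of_tendsto' (tendsto_one_div_add_atTop_nhds_zero_nat (𝕜 := ℝ)) fun n => (hx n).2.2
        have := abs_nonpos_iff.1 this
        linarith
      rw [Function.update_self, h0]
    · rw [Function.update_of_ne hj]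
      first
        | exact ((hx 0).2.1 j hj).1
        | exact ((hx 0).2.1 j hj).2

include hc in
/-- Bisection principle for boxes: `Q L` for all sub-boxes of `[p, q]` contained in `W`, if `Q` is additive for
adjacent boxes, monotone for passing to subsets of an open set where it holds, and true near points. -/
theorem box (p q : Fin m → ℝ) (W : Set X) (Q : Set X → Prop)
    (hQopen : ∀ L, L ⊆ W → Q L → ∃ O, IsOpen O ∧ L ⊆ O ∧ ∀ L', L' ⊆ O → L' ⊆ W → Q L')
    (hadd : ∀ (a b : Fin m → ℝ) (i : Fin m) (s t u : ℝ), p ≤ a → a ≤ b → b ≤ q → a i ≤ s → s ≤ t → t ≤ u →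
      u ≤ b i →
      bx c (Function.update a i s) (Function.update b i u) ⊆ W →
      Q (bx c (Function.update a i s) (Function.update b i t)) →
      Q (bx c (Function.update a i t) (Function.update b i u)) →
      Q (bx c (Function.update a i s) (Function.update b i u)))
    (hpt : ∀ a, p ≤ a → a ≤ q → bx c a a ⊆ W → Q (bx c a a))
    (a b : Fin m → ℝ) (ha : p ≤ a) (hab : a ≤ b) (hb : b ≤ q) (hW : bx c a b ⊆ W) : Q (bx c a b) := by
  classical
  have key : ∀ J : Finset (Fin m), ∀ a b : Fin m → ℝ, p ≤ a → a ≤ b → b ≤ q → (∀ j, j ∉ J → a j = b j) →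
      bx c a b ⊆ W → Q (bx c a b) := by
    intro J
    induction J using Finset.induction_on with
    | empty =>
      intro a b ha hab hb h hW
      obtain rfl : a = b := funext fun j => h j (by simp)
      exact hpt a ha hb hW
    | insert i J hi ih =>
      intro a b ha hab hb h hW
      have hii : a i ≤ b i := hab i
      have hupd : ∀ s u, a i ≤ s → s ≤ u → u ≤ b i → p ≤ Function.update a i s ∧
          Function.update a i s ≤ Function.update b i u ∧ Function.update b i u ≤ q ∧
          bx c (Function.update a i s) (Function.update b i u) ⊆ bx c a b := by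
        intro s u hs hsu hu
        have h1 : a ≤ Function.update a i s := by
          intro j
          by_cases hj : j = i
          · subst hj; simpa using hs
          · rw [Function.update_of_ne hj]
        have h2 : Function.update b i u ≤ b := by
          intro j
          by_cases hj : j = i
          · subst hj; simpa using hu
          · rw [Function.update_of_ne hj]
        refine ⟨ha.trans h1, ?_, h2.trans hb, fun x hx => ⟨h1.trans hx.1, hx.2.trans h2⟩⟩
        intro j
        by_cases hj : j = i
        · subst hj; simpa using hsu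
        · rw [Function.update_of_ne hj, Function.update_of_ne hj]; exact hab j
      have hR := interval hii (fun s u => Q (bx c (Function.update a i s) (Function.update b i u))) ?_ ?_
      · simpa using hR
      · intro s t u hs hst htu hu h1 h2
        exact hadd a b i s t u ha hab hb hs hst htu hu
          ((hupd s u hs (hst.trans htu) hu).2.2.2.trans hW) h1 h2
      · intro t ht
        obtain ⟨h1, h2, h3, h4⟩ := hupd t t ht.1 le_rfl ht.2
        have hQ : Q (bx c (Function.update a i t) (Function.update b i t)) := by
          refine ih _ _ h1 h2 h3 (fun j hj => ?_) (h4.trans hW)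
          by_cases hji : j = i
          · subst hji; simp
          · rw [Function.update_of_ne hji, Function.update_of_ne hji]
            exact h j (by simp [hji, hj])
        obtain ⟨O, hO, hLO, hO'⟩ := hQopen _ (h4.trans hW) hQ
        obtain ⟨ε, hε, hsl⟩ := exists_slab c hc a b i t hO hLO
        refine ⟨ε, hε, fun s u hs hst htu hu hs' hu' => ?_⟩
        exact hO' _ (hsl s u hst htu hs' hu')
          ((hupd s u hs (hst.trans htu) hu).2.2.2.trans hW)
  exact key Finset.univ a b ha hab hb (by simp) hW

end Box

end Groth.Agent.An.H476.Bisect
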