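import Groth.Agent.An.H476.BoxChart
import Groth.Agent.An.H890.ULiftSite
import Mathlib.Analysis.Complex.Basic
import Mathlib.Logic.Equiv.Fin.Basic

/-!
# Real and complex charts, change of universe

* `realify m : (Fin m → ℂ) ≃ₜ (Fin (m * 2) → ℝ)`.
* `HasRealCharts q`, `HasComplexCharts q` for `q : C(E, T)`, `E T : Type`; `hasCharts_uMap`.
-/

set_option autoImplicit false

open TopologicalSpace Set Topology
open Groth.Agent.An.H890.ULiftSite

noncomputable section

namespace Groth.Agent.An.H476.Charts

open BoxChart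

/-- `ℂ^m` as `ℝ^{2m}`. -/
def realify (m : ℕ) : (Fin m → ℂ) ≃ₜ (Fin (m * 2) → ℝ) where
  toFun f k := if (finProdFinEquiv.symm k).2 = 0 then (f (finProdFinEquiv.symm k).1).re
    else (f (finProdFinEquiv.symm k).1).im
  invFun g i := ⟨g (finProdFinEquiv (i, 0)), g (finProdFinEquiv (i, 1))⟩
  left_inv f := by
    funext i
    apply Complex.ext <;> simp only [Equiv.symm_apply_apply] <;> simp
  right_inv g := by
    funext k
    obtain ⟨⟨i, j⟩, rfl⟩ := finProdFinEquiv.surjective k
    simp only [Equiv.symm_apply_apply]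
    fin_cases j <;> simp
  continuous_toFun := by
    refine continuous_pi fun k => ?_
    by_cases h : (finProdFinEquiv.symm k).2 = 0
    · simp only [h, if_true]
      exact Complex.continuous_re.comp (continuous_apply _)
    · simp only [h, if_false]
      exact Complex.continuous_im.comp (continuous_apply _)
  continuous_invFun := by
    refine continuous_pi fun i => ?_
    have h : Continuous fun g : Fin (m * 2) → ℝ =>
        Complex.equivRealProdCLM.symm (g (finProdFinEquiv (i, 0)), g (finProdFinEquiv (i, 1))) :=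
      Complex.equivRealProdCLM.symm.continuous.comp ((continuous_apply _).prodMk (continuous_apply _))
    refine h.congr fun g => ?_
    apply Complex.ext <;> simp

variable {E T : Type} [TopologicalSpace E] [TopologicalSpace T] (q : C(E, T))

/-- `q` is locally on the source an open subspace of `T × ℝ^m` (over `T`). -/
def HasRealCharts : Prop :=
  ∀ e : E, ∃ (m : ℕ) (U : Set E) (φ : U → T × (Fin m → ℝ)), IsOpen U ∧ e ∈ U ∧ IsOpenEmbedding φ ∧
    ∀ u : U, (φ u).1 = q u

/-- `q` is locally on the source an open subspace of `T × ℂ^m` (over `T`). -/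
def HasComplexCharts : Prop :=
  ∀ e : E, ∃ (m : ℕ) (U : Set E) (φ : U → T × (Fin m → ℂ)), IsOpen U ∧ e ∈ U ∧ IsOpenEmbedding φ ∧
    ∀ u : U, (φ u).1 = q u

variable {q}

theorem HasComplexCharts.real (h : HasComplexCharts q) : HasRealCharts q := by
  intro e
  obtain ⟨m, U, φ, hU, he, hφ, hφq⟩ := h e
  refine ⟨m * 2, U, fun u => ((φ u).1, realify m (φ u).2), hU, he, ?_, hφq⟩
  exact ((Homeomorph.refl T).prodCongr (realify m)).isOpenEmbedding.comp hφ

theorem hasCharts_uMap (h : HasRealCharts q) : HasCharts (uMap q) := by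
  intro x
  obtain ⟨m, U, φ, hU, he, hφ, hφq⟩ := h x.down
  let U' : Set (uT E) := ULift.down ⁻¹' U
  let α : U' ≃ₜ U := Homeomorph.subtype Homeomorph.ulift (fun _ => Iff.rfl)
  let β : T × (Fin m → ℝ) ≃ₜ ULift.{1} T × (Fin m → ℝ) := Homeomorph.ulift.symm.prodCongr (Homeomorph.refl _)
  refine ⟨m, U', fun u => β (φ (α u)), hU.preimage continuous_uliftDown, he,
    β.isOpenEmbedding.comp (hφ.comp α.isOpenEmbedding), fun u => ?_⟩
  change ULift.up (φ (α u)).1 = ULift.up (q u.1.down)
  rw [hφq]
  rfl

end Groth.Agent.An.H476.Charts
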